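import Groth.Agent.BBLib.Line

/-!
# Equivariant morphisms étale near the fixed points with bijective fixed points are isomorphisms
-/

set_option autoImplicit false
set_option linter.style.haveILetI false
universe u

open CategoryTheory CategoryTheory.Limits MonoidalCategory CartesianMonoidalCategory MonObj
  AlgebraicGeometry Opposite

noncomputable section

namespace BBLib

variable {S : Scheme.{u}} {X Y : Over S}

/-- The orbit map of a point. -/
def orbit (a : Magnet.MonAct (A S) X) {T : Over S} (x : T ⟶ X) : A S ⊗ T ⟶ X := (A S ◁ x) ≫ a.act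

theorem comp_orbit (a : Magnet.MonAct (A S) X) {T T' : Over S} (x : T ⟶ X) (e : T' ⟶ A S ⊗ T) :
    e ≫ orbit a x = lift (e ≫ fst _ _) ((e ≫ snd _ _) ≫ x) ≫ a.act := by
  have he : e = lift (e ≫ fst _ _) (e ≫ snd _ _) := (lift_comp_fst_snd e).symm
  conv_lhs => rw [he, orbit, lift_whiskerLeft_assoc]

theorem orbit_equivariant {a : Magnet.MonAct (A S) X} {b : Magnet.MonAct (A S) Y} {f : X ⟶ Y}
    (hf : Magnet.MonAct.IsEquivariant a b f) {T : Over S} (x : T ⟶ X) :
    orbit a x ≫ f = orbit b (x ≫ f) := by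
  unfold Magnet.MonAct.IsEquivariant at hf
  simp only [orbit, Category.assoc, hf, MonoidalCategory.whiskerLeft_comp]

/-- The limit point. -/
def flow (a : Magnet.MonAct (A S) X) {T : Over S} (x : T ⟶ X) : T ⟶ X := lift (zero T) x ≫ a.act

theorem zeroSec_orbit (a : Magnet.MonAct (A S) X) {T : Over S} (x : T ⟶ X) :
    zeroSec T ≫ orbit a x = flow a x := by
  rw [zeroSec, orbit, lift_whiskerLeft_assoc, Category.id_comp, flow]

theorem flow_fixed (a : Magnet.MonAct (A S) X) {T : Over S} (x : T ⟶ X) (T' : Over S) (t : T' ⟶ T)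
    (g : T' ⟶ A S) : lift g (t ≫ flow a x) ≫ a.act = t ≫ flow a x := by
  rw [flow, ← Category.assoc, comp_lift, comp_zero, ← Magnet.MonAct.lift_mul_act, mul_zero_pt]

theorem flow_equivariant {a : Magnet.MonAct (A S) X} {b : Magnet.MonAct (A S) Y} {f : X ⟶ Y}
    (hf : Magnet.MonAct.IsEquivariant a b f) {T : Over S} (x : T ⟶ X) :
    flow a x ≫ f = flow b (x ≫ f) := by
  rw [flow, Category.assoc, (Magnet.MonAct.isEquivariant_iff a b f).mp hf, flow]

theorem cancel_act (a : Magnet.MonAct (A S) X) {T : Over S} {g g' : T ⟶ A S} (h : g' * g = 1)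
    (x : T ⟶ X) : lift g' (lift g x ≫ a.act) ≫ a.act = x := by
  rw [← Magnet.MonAct.lift_mul_act, h, Magnet.MonAct.lift_one_act]

variable {a : Magnet.MonAct (A S) X} {b : Magnet.MonAct (A S) Y} (f : X ⟶ Y)
  (hf : Magnet.MonAct.IsEquivariant a b f)
  (hinj : ∀ (T : Over S) (x x' : (Magnet.MonAct.fixedPsh a).obj (op T)), x.1 ≫ f = x'.1 ≫ f → x = x')
  (hsurj : ∀ (T : Over S) (y : (Magnet.MonAct.fixedPsh b).obj (op T)),
    ∃ x : (Magnet.MonAct.fixedPsh a).obj (op T), x.1 ≫ f = y.1)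
  (V : X.left.Opens) [Etale (V.ι ≫ f.left)]
  (h3 : ∀ (T : Over S) (x : (Magnet.MonAct.fixedPsh a).obj (op T)), x.1.left ⁻¹ᵁ V = ⊤)

include hf hinj h3 in
theorem eq_of_comp_eq {T : Over S} (x x' : T ⟶ X) (h : x ≫ f = x' ≫ f) : x = x' := by
  let P := A S ⊗ T
  let γ := orbit a x
  let γ' := orbit a x'
  have hγ : γ ≫ f = γ' ≫ f := by rw [orbit_equivariant hf, orbit_equivariant hf, h]
  let x₀ : (Magnet.MonAct.fixedPsh a).obj (op T) := ⟨flow a x, flow_fixed a x⟩
  let x₁ : (Magnet.MonAct.fixedPsh a).obj (op T) := ⟨flow a x', flow_fixed a x'⟩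
  have hx : flow a x = flow a x' := congrArg Subtype.val (hinj T x₀ x₁ (by
    rw [flow_equivariant hf, flow_equivariant hf, h]))
  let g : V.toScheme ⟶ Y.left := V.ι ≫ f.left
  haveI : IsOpenImmersion (pullback.diagonal g) := inferInstance
  let Ω : P.left.Opens := γ.left ⁻¹ᵁ V ⊓ γ'.left ⁻¹ᵁ V
  have hs : ∀ t, (zeroSec T).left t ∈ Ω := fun t => by
    have hV : t ∈ (flow a x).left ⁻¹ᵁ V := (h3 T x₀).symm ▸ trivial
    have h1 : (zeroSec T ≫ γ).left = (flow a x).left := congrArg _ (zeroSec_orbit a x)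
    have h2 : (zeroSec T ≫ γ').left = (flow a x).left := congrArg _ ((zeroSec_orbit a x').trans hx.symm)
    constructor
    · change (zeroSec T ≫ γ).left t ∈ V
      rw [h1]; exact hV
    · change (zeroSec T ≫ γ').left t ∈ V
      rw [h2]; exact hV
  have hr : Set.range (Ω.ι ≫ γ.left) ⊆ Set.range V.ι := by
    rintro _ ⟨w, rfl⟩
    rw [Scheme.Opens.range_ι]
    exact w.2.1
  have hr' : Set.range (Ω.ι ≫ γ'.left) ⊆ Set.range V.ι := by
    rintro _ ⟨w, rfl⟩
    rw [Scheme.Opens.range_ι]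
    exact w.2.2
  let α := IsOpenImmersion.lift V.ι (Ω.ι ≫ γ.left) hr
  let β := IsOpenImmersion.lift V.ι (Ω.ι ≫ γ'.left) hr'
  have hα : α ≫ V.ι = Ω.ι ≫ γ.left := IsOpenImmersion.lift_fac _ _ _
  have hβ : β ≫ V.ι = Ω.ι ≫ γ'.left := IsOpenImmersion.lift_fac _ _ _
  let e : Ω.toScheme ⟶ pullback g g := pullback.lift α β (by
    simp only [g, reassoc_of% hα, reassoc_of% hβ]
    rw [← Over.comp_left, ← Over.comp_left, hγ])
  let W' : Ω.toScheme.Opens := e ⁻¹ᵁ (pullback.diagonal g).opensRange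
  let k : W'.toScheme ⟶ P.left := W'.ι ≫ Ω.ι
  have hk : k ≫ γ.left = k ≫ γ'.left := by
    have hr2 : Set.range (W'.ι ≫ e) ⊆ Set.range (pullback.diagonal g) := by
      rintro _ ⟨w, rfl⟩
      exact w.2
    let d := IsOpenImmersion.lift (pullback.diagonal g) (W'.ι ≫ e) hr2
    have hd : d ≫ pullback.diagonal g = W'.ι ≫ e := IsOpenImmersion.lift_fac _ _ _
    have e1 := hd =≫ pullback.fst g g
    have e2 := hd =≫ pullback.snd g g
    simp only [Category.assoc, pullback.diagonal_fst, pullback.diagonal_snd, Category.comp_id, e,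
      pullback.lift_fst, pullback.lift_snd] at e1 e2
    simp only [k, Category.assoc, ← hα, ← hβ]
    rw [← Category.assoc, ← e1, ← Category.assoc, ← e2]
  have hk0 : ∀ t, (zeroSec T).left t ∈ k.opensRange := fun t => by
    have hr3 : Set.range (zeroSec T).left ⊆ Set.range Ω.ι := by
      rintro _ ⟨t', rfl⟩
      rw [Scheme.Opens.range_ι]
      exact hs t'
    let s := IsOpenImmersion.lift Ω.ι (zeroSec T).left hr3
    have hs' : s ≫ Ω.ι = (zeroSec T).left := IsOpenImmersion.lift_fac _ _ _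
    have hse : s ≫ e = (s ≫ α) ≫ pullback.diagonal g := by
      apply pullback.hom_ext
      · rw [Category.assoc, pullback.lift_fst, Category.assoc, pullback.diagonal_fst, Category.comp_id]
      · rw [Category.assoc, pullback.lift_snd, Category.assoc, pullback.diagonal_snd, Category.comp_id]
        rw [← cancel_mono V.ι, Category.assoc, Category.assoc, hα, hβ, reassoc_of% hs', reassoc_of% hs',
          ← Over.comp_left, ← Over.comp_left, zeroSec_orbit, zeroSec_orbit, hx]
    have hmem : s t ∈ W' := ⟨(s ≫ α) t, by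
      rw [← Scheme.Hom.comp_apply, ← hse]
      rfl⟩
    exact ⟨⟨s t, hmem⟩, by
      rw [Scheme.Hom.comp_apply]
      exact congrArg (fun m => m t) hs'⟩
  obtain ⟨Q, q, hu, hq, hfl, hsu, -⟩ := exists_cover k.opensRange hk0
  obtain ⟨g', hg'⟩ := exists_inv _ hu
  let l := IsOpenImmersion.lift k q.left hq
  have hl : l ≫ k = q.left := IsOpenImmersion.lift_fac _ _ _
  have heq : q ≫ γ = q ≫ γ' := Over.OverMorphism.ext (by
    rw [Over.comp_left, Over.comp_left, ← hl]
    exact (Category.assoc _ _ _).trans ((congrArg (l ≫ ·) hk).trans (Category.assoc _ _ _).symm))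
  rw [comp_orbit, comp_orbit] at heq
  have key := congrArg (fun z => lift g' z ≫ a.act) heq
  simp only [cancel_act a hg'] at key
  haveI := Flat.epi_of_flat_of_surjective (q ≫ snd (A S) T).left
  refine Over.OverMorphism.ext ?_
  rw [← cancel_epi (q ≫ snd (A S) T).left, ← Over.comp_left, ← Over.comp_left, key]

include hf hinj hsurj h3 in
theorem isIso_of_etale_fixed : IsIso f := by
  haveI : Mono f := ⟨fun x x' h => eq_of_comp_eq f hf hinj V h3 x x' h⟩
  haveI : Mono f.left := inferInstance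
  let g : V.toScheme ⟶ Y.left := V.ι ≫ f.left
  haveI : IsOpenImmersion g := IsOpenImmersion.of_flat_of_mono g
  let γ := orbit b (𝟙 Y)
  let O : (A S ⊗ Y).left.Opens := γ.left ⁻¹ᵁ g.opensRange
  have hO : ∀ y, (zeroSec Y).left y ∈ O := fun y => by
    obtain ⟨x₀, hx₀⟩ := hsurj Y ⟨flow b (𝟙 Y), flow_fixed b (𝟙 Y)⟩
    have hV : x₀.1.left y ∈ V := by
      change y ∈ x₀.1.left ⁻¹ᵁ V
      rw [h3 Y x₀]
      trivial
    change (zeroSec Y ≫ γ).left y ∈ g.opensRange
    refine ⟨⟨x₀.1.left y, hV⟩, ?_⟩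
    have h := congrArg (fun m => m.left y) (hx₀.trans (zeroSec_orbit b (𝟙 Y)).symm)
    simp only [Over.comp_left, Scheme.Hom.comp_apply] at h ⊢
    exact h
  obtain ⟨Q, q, hu, hq, hfl, hsu, hfp⟩ := exists_cover O hO
  obtain ⟨g', hg'⟩ := exists_inv _ hu
  have hr : Set.range (q ≫ γ).left ⊆ Set.range g := by
    rintro _ ⟨w, rfl⟩
    exact hq ⟨w, rfl⟩
  let l := IsOpenImmersion.lift g (q ≫ γ).left hr
  have hl : l ≫ g = (q ≫ γ).left := IsOpenImmersion.lift_fac _ _ _
  let z : Q ⟶ X := Over.homMk (l ≫ V.ι) (by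
    rw [Category.assoc, ← Over.w f, ← Category.assoc V.ι, ← Category.assoc, hl, Over.w])
  have hz : z ≫ f = q ≫ γ := Over.OverMorphism.ext ((Category.assoc _ _ _).trans hl)
  let σ : Q ⟶ X := lift g' z ≫ a.act
  have hσ : σ ≫ f = q ≫ snd _ _ := by
    rw [Category.assoc, (Magnet.MonAct.isEquivariant_iff a b f).mp hf, hz, comp_orbit, cancel_act b hg',
      Category.comp_id]
  let p := (q ≫ snd (A S) Y).left
  let π := pullback.snd f.left p
  haveI : IsSplitEpi π := ⟨⟨⟨pullback.lift σ.left (𝟙 _) (by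
    rw [← Over.comp_left, hσ, Category.id_comp]), pullback.lift_snd _ _ _⟩⟩⟩
  haveI : IsIso π := isIso_of_mono_of_isSplitEpi π
  haveI : IsIso f.left := MorphismProperty.of_pullback_snd_of_descendsAlong
    (P := MorphismProperty.isomorphisms Scheme.{u}) (Q := @Surjective ⊓ @Flat ⊓ @LocallyOfFinitePresentation)
    (g := p) ⟨⟨hsu, hfl⟩, hfp⟩ (inferInstanceAs (IsIso π))
  haveI : IsIso ((Over.forget S).map f) := inferInstanceAs (IsIso f.left)
  exact isIso_of_reflects_iso f (Over.forget S)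

end BBLib
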