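import Groth.Agent.AttrPtLib.Points
import Groth.Prelude.Def_Magnet3
import Mathlib.AlgebraicGeometry.Morphisms.FlatDescent
import Mathlib.AlgebraicGeometry.Morphisms.FlatMono
import Mathlib.AlgebraicGeometry.Morphisms.Etale
import Mathlib.FieldTheory.RatFunc.Basic
import Mathlib.RingTheory.FiniteType

/-!
# The multiplicative affine line: coordinate, unit points and covers by unit points
-/

set_option autoImplicit false
set_option linter.style.haveILetI false
universe u

open CategoryTheory CategoryTheory.Limits MonoidalCategory CartesianMonoidalCategory MonObj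
  AlgebraicGeometry Opposite

noncomputable section

namespace BBLib

variable {S : Scheme.{u}}

/-- The affine line with its multiplication. -/
abbrev A (S : Scheme.{u}) : Over S := Magnet.AMonS S ℕ

/-- The coordinate of a point of the affine line. -/
def coord {T : Over S} (g : T ⟶ A S) : Γ(T.left, ⊤) := AttrPtLib.chi g 1

theorem chi_nat {T : Over S} (g : T ⟶ A S) : ∀ n : ℕ, AttrPtLib.chi g n = coord g ^ n
  | 0 => by rw [AttrPtLib.chi_zero, pow_zero]
  | n + 1 => by rw [AttrPtLib.chi_add, chi_nat g n, pow_succ, coord]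

theorem coord_ext {T : Over S} {g h : T ⟶ A S} (e : coord g = coord h) : g = h :=
  AttrPtLib.chi_ext fun m => by rw [chi_nat, chi_nat, e]

theorem coord_comp {T T' : Over S} (u : T' ⟶ T) (g : T ⟶ A S) :
    coord (u ≫ g) = u.left.appTop (coord g) :=
  AttrPtLib.chi_comp u g 1

theorem coord_mul {T : Over S} (g h : T ⟶ A S) : coord (g * h) = coord g * coord h :=
  AttrPtLib.chi_mul g h 1

theorem exists_coord (T : Over S) (t : Γ(T.left, ⊤)) : ∃ g : T ⟶ A S, coord g = t := by
  let c : Multiplicative ℕ →* Γ(T.left, ⊤) :=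
    { toFun := fun m => t ^ (Multiplicative.toAdd m : ℕ)
      map_one' := pow_zero _
      map_mul' := fun a b => pow_add _ _ _ }
  obtain ⟨g, hg⟩ := AttrPtLib.exists_chi T c
  exact ⟨g, (hg 1).trans (pow_one t)⟩

theorem coord_one (T : Over S) : coord (1 : T ⟶ A S) = 1 := by
  obtain ⟨g, hg⟩ := exists_coord T 1
  have h := coord_mul g (1 : T ⟶ A S)
  rw [_root_.mul_one, hg, _root_.one_mul] at h
  exact h.symm

/-- The absorbing point. -/
def zero (T : Over S) : T ⟶ A S := (exists_coord T 0).choose

theorem coord_zero (T : Over S) : coord (zero T) = 0 := (exists_coord T 0).choose_spec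

theorem comp_zero {T T' : Over S} (u : T' ⟶ T) : u ≫ zero T = zero T' :=
  coord_ext (by rw [coord_comp, coord_zero, coord_zero, map_zero])

theorem zero_mul_pt {T : Over S} (g : T ⟶ A S) : zero T * g = zero T :=
  coord_ext (by rw [coord_mul, coord_zero, MulZeroClass.zero_mul])

theorem mul_zero_pt {T : Over S} (g : T ⟶ A S) : g * zero T = zero T :=
  coord_ext (by rw [coord_mul, coord_zero, MulZeroClass.mul_zero])

theorem exists_inv {T : Over S} (g : T ⟶ A S) (hg : IsUnit (coord g)) :
    ∃ g' : T ⟶ A S, g' * g = 1 := by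
  obtain ⟨g', hg'⟩ := exists_coord T ↑hg.unit⁻¹
  exact ⟨g', coord_ext (by rw [coord_mul, coord_one, hg']; exact hg.val_inv_mul)⟩

theorem flat_hom (S : Scheme.{u}) : Flat (A S).hom := by
  have h : Flat (Spec.map (CommRingCat.ofHom (algebraMap AttrPtLib.Z.{u} (AttrPtLib.RM.{u} ℕ)))) := by
    rw [HasRingHomProperty.Spec_iff (P := @Flat)]
    exact RingHom.flat_algebraMap_iff.2 inferInstance
  exact MorphismProperty.pullback_snd _ _ h

theorem locallyOfFinitePresentation_hom (S : Scheme.{u}) : LocallyOfFinitePresentation (A S).hom := by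
  have h : LocallyOfFinitePresentation
      (Spec.map (CommRingCat.ofHom (algebraMap AttrPtLib.Z.{u} (AttrPtLib.RM.{u} ℕ)))) := by
    rw [HasRingHomProperty.Spec_iff (P := @LocallyOfFinitePresentation)]
    haveI : IsNoetherianRing AttrPtLib.Z.{u} := isNoetherianRing_of_ringEquiv ℤ ULift.ringEquiv.symm
    exact RingHom.finitePresentation_algebraMap.2 (Algebra.FinitePresentation.of_finiteType.1 inferInstance)
  exact MorphismProperty.pullback_snd _ _ h

/-- The zero section. -/
def zeroSec (T : Over S) : T ⟶ A S ⊗ T := lift (zero T) (𝟙 T)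

theorem exists_point {T : Over S} (O : (A S ⊗ T).left.Opens) (hO : ∀ t, (zeroSec T).left t ∈ O)
    (t : T.left) : ∃ (K : Over S) (e : K ⟶ A S ⊗ T) (x : K.left),
      IsUnit (coord (e ≫ fst _ _)) ∧ e.left x ∈ O ∧ (e ≫ snd _ _).left x = t := by
  let κ : CommRingCat.{u} := T.left.residueField t
  let P : CommRingCat.{u} := CommRingCat.of (Polynomial κ)
  let L : CommRingCat.{u} := CommRingCat.of (RatFunc κ)
  let ev : P ⟶ κ := CommRingCat.ofHom (Polynomial.evalRingHom (0 : κ))
  let C' : κ ⟶ P := CommRingCat.ofHom Polynomial.C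
  let j : P ⟶ L := CommRingCat.ofHom (algebraMap (Polynomial κ) (RatFunc κ))
  let bt : Spec κ ⟶ T.left := T.left.fromSpecResidueField t
  let K₀ : Over S := Over.mk (bt ≫ T.hom)
  let Q : Over S := Over.mk (Spec.map C' ≫ bt ≫ T.hom)
  let K : Over S := Over.mk (Spec.map j ≫ Spec.map C' ≫ bt ≫ T.hom)
  obtain ⟨g, hg⟩ := exists_coord Q ((Scheme.ΓSpecIso P).inv Polynomial.X)
  let e : Q ⟶ A S ⊗ T := lift g (Over.homMk (Spec.map C' ≫ bt) (Category.assoc _ _ _))
  have hev : Spec.map ev ≫ Spec.map C' = 𝟙 _ := by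
    rw [← Spec.map_comp, ← Spec.map_id]
    congr 1
    ext a
    exact Polynomial.eval_C
  let z : K₀ ⟶ Q := Over.homMk (Spec.map ev) (by
    change Spec.map ev ≫ Spec.map C' ≫ bt ≫ T.hom = bt ≫ T.hom
    rw [← Category.assoc, hev, Category.id_comp])
  let r : K ⟶ Q := Over.homMk (Spec.map j) rfl
  let b₀ : K₀ ⟶ T := Over.homMk bt rfl
  have hz : z ≫ e = b₀ ≫ zeroSec T := by
    apply CartesianMonoidalCategory.hom_ext
    · rw [Category.assoc, lift_fst, Category.assoc, zeroSec, lift_fst, comp_zero]
      refine coord_ext ?_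
      rw [coord_comp, hg, coord_zero]
      change (Spec.map ev).appTop ((Scheme.ΓSpecIso P).inv Polynomial.X) = 0
      rw [← CommRingCat.comp_apply, ← Scheme.ΓSpecIso_inv_naturality, CommRingCat.comp_apply]
      exact (congrArg (Scheme.ΓSpecIso κ).inv.hom Polynomial.eval_X).trans (map_zero _)
    · rw [Category.assoc, lift_snd, Category.assoc, zeroSec, lift_snd, Category.comp_id]
      refine Over.OverMorphism.ext ?_
      change Spec.map ev ≫ Spec.map C' ≫ bt = bt
      rw [← Category.assoc, hev, Category.id_comp]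
  let c : (Spec κ : Scheme.{u}) := IsLocalRing.closedPoint κ
  have h0 : z.left c ∈ e.left ⁻¹ᵁ O := by
    change e.left (z.left c) ∈ O
    have h := congrArg (fun m => m.left c) hz
    simp only [Over.comp_left, Scheme.Hom.comp_apply] at h
    rw [h]
    exact hO _
  let gen : (Spec L : Scheme.{u}) := IsLocalRing.closedPoint L
  have hη : r.left gen ⤳ z.left c := by
    refine (PrimeSpectrum.le_iff_specializes _ _).mp ?_
    intro a ha
    have ha' : algebraMap (Polynomial κ) (RatFunc κ) a ∈ IsLocalRing.maximalIdeal (RatFunc κ) := ha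
    have h1 : a = 0 := by
      rw [IsLocalRing.maximalIdeal_eq_bot, Ideal.mem_bot] at ha'
      exact (RatFunc.algebraMap_injective (K := κ)) (by rw [ha', map_zero])
    rw [h1]
    exact zero_mem _
  refine ⟨K, r ≫ e, gen, ?_, hη.mem_open (e.left ⁻¹ᵁ O).2 h0, ?_⟩
  · rw [Category.assoc, lift_fst, coord_comp, hg]
    change IsUnit ((Spec.map j).appTop ((Scheme.ΓSpecIso P).inv Polynomial.X))
    rw [← CommRingCat.comp_apply, ← Scheme.ΓSpecIso_inv_naturality, CommRingCat.comp_apply]
    have hX : algebraMap (Polynomial κ) (RatFunc κ) Polynomial.X ≠ 0 := fun h =>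
      Polynomial.X_ne_zero ((RatFunc.algebraMap_injective (K := κ)) (h.trans (map_zero _).symm))
    exact (isUnit_iff_ne_zero.mpr hX).map (Scheme.ΓSpecIso L).inv.hom
  · rw [Category.assoc, lift_snd]
    change bt (Spec.map C' (Spec.map j gen)) = t
    exact Set.mem_singleton_iff.mp ((Scheme.range_fromSpecResidueField t).subset ⟨_, rfl⟩)

/-- Unit points inside a neighbourhood of the zero section form a flat cover. -/
theorem exists_cover {T : Over S} (O : (A S ⊗ T).left.Opens) (hO : ∀ t, (zeroSec T).left t ∈ O) :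
    ∃ (Q : Over S) (e : Q ⟶ A S ⊗ T), IsUnit (coord (e ≫ fst _ _)) ∧ Set.range e.left ⊆ O ∧
      Flat (e ≫ snd _ _).left ∧ Surjective (e ≫ snd _ _).left ∧
      LocallyOfFinitePresentation (e ≫ snd _ _).left := by
  let P := A S ⊗ T
  let D : P.left.Opens := P.left.basicOpen (coord (fst (A S) T))
  let W : P.left.Opens := O ⊓ D
  let Q : Over S := Over.mk (W.ι ≫ P.hom)
  let e : Q ⟶ P := Over.homMk W.ι rfl
  haveI : IsOpenImmersion e.left := inferInstanceAs (IsOpenImmersion W.ι)
  haveI : Flat (snd (A S) T).left := by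
    haveI := flat_hom S
    exact MorphismProperty.pullback_snd (A S).hom T.hom (flat_hom S)
  haveI : LocallyOfFinitePresentation (snd (A S) T).left :=
    MorphismProperty.pullback_snd (A S).hom T.hom (locallyOfFinitePresentation_hom S)
  refine ⟨Q, e, ?_, ?_, by rw [Over.comp_left]; infer_instance, ⟨fun t => ?_⟩,
    by rw [Over.comp_left]; infer_instance⟩
  · rw [coord_comp]
    refine Q.left.toRingedSpace.isUnit_of_isUnit_germ ⊤ _ fun w hw => ?_
    refine (Q.left.mem_basicOpen _ w hw).mp ?_
    rw [← Scheme.preimage_basicOpen_top]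
    exact w.2.2
  · rintro _ ⟨w, rfl⟩
    exact w.2.1
  · obtain ⟨K, f, x, hu, hx, ht⟩ := exists_point O hO t
    have hD : f.left x ∈ D := by
      change x ∈ f.left ⁻¹ᵁ D
      rw [Scheme.preimage_basicOpen_top, ← coord_comp, Scheme.basicOpen_of_isUnit _ hu]
      trivial
    refine ⟨⟨f.left x, hx, hD⟩, ?_⟩
    rw [Over.comp_left, Scheme.Hom.comp_apply] at ht ⊢
    exact ht

end BBLib
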